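import Cfsg.Agent.Lib.Sporadic.ThParts.Base
import Cfsg.Agent.Lib.Sporadic.ThParts.FiveCubeData

/-!
# Checks of the matrices, part 3
-/

set_option autoImplicit false
set_option maxRecDepth 100000

namespace CfsgLib.Sporadic.ThParts.FiveCube

open ThGL

theorem node9_chk : okRows 248 (unpack node9) = true ∧ prodIs [(unpack node7), (unpack node8)] (unpack node9) = true := by
  decide +kernel

theorem node10_chk : okRows 248 (unpack node10) = true ∧ prodIs [(unpack node9), (ThGL.lett 10), (ThGL.lett 5), (ThGL.lett 7), (ThGL.lett 1), (ThGL.lett 0)] (unpack node10) = true := by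
  decide +kernel

theorem node11_chk : okRows 248 (unpack node11) = true ∧ prodIs [(ThGL.lett 8), (ThGL.lett 10), (ThGL.lett 6), (ThGL.lett 0), (ThGL.lett 3), (ThGL.lett 9), (ThGL.lett 7), (ThGL.lett 9), (ThGL.lett 5), (ThGL.lett 9), (ThGL.lett 4), (unpack node10)] (unpack node11) = true := by
  decide +kernel

end CfsgLib.Sporadic.ThParts.FiveCube
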