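import Cfsg.Agent.Lib.Sporadic.ThParts.Base
import Cfsg.Agent.Lib.Sporadic.ThParts.FiveCubeData

/-!
# Checks of the matrices, part 4
-/

set_option autoImplicit false
set_option maxRecDepth 100000

namespace CfsgLib.Sporadic.ThParts.FiveCube

open ThGL

theorem node12_chk : okRows 248 (unpack node12) = true ∧ prodIs [(unpack node10), (unpack node10), (unpack node9)] (unpack node12) = true := by
  decide +kernel

theorem node13_chk : okRows 248 (unpack node13) = true ∧ prodIs [(unpack node6), (unpack node11), (unpack node12)] (unpack node13) = true := by
  decide +kernel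

theorem node14_chk : okRows 248 (unpack node14) = true ∧ prodIs [(ThGL.lett 4), (ThGL.lett 2), (ThGL.lett 10), (ThGL.lett 2), (unpack node13)] (unpack node14) = true := by
  decide +kernel

end CfsgLib.Sporadic.ThParts.FiveCube
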