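import Cfsg.Agent.Lib.Sporadic.ThParts.Base
import Cfsg.Agent.Lib.Sporadic.ThParts.FiveCubeData

/-!
# Checks of the matrices, part 6
-/

set_option autoImplicit false
set_option maxRecDepth 100000

namespace CfsgLib.Sporadic.ThParts.FiveCube

open ThGL

theorem node18_chk : okRows 248 (unpack node18) = true ∧ prodIs [(unpack node16), (unpack node17)] (unpack node18) = true := by
  decide +kernel

theorem node19_chk : okRows 248 (unpack node19) = true ∧ prodIs [(unpack node18), (unpack node18), (unpack node13), (unpack node18)] (unpack node19) = true := by
  decide +kernel

theorem stab0_chk : okRows 248 (unpack stab0) = true ∧ prodIs [(unpack node15)] (unpack stab0) = true := by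
  decide +kernel

end CfsgLib.Sporadic.ThParts.FiveCube
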