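import Cfsg.Agent.Lib.Sporadic.ThParts.FiveCubeChecks0
import Cfsg.Agent.Lib.Sporadic.ThParts.FiveCubeChecks1
import Cfsg.Agent.Lib.Sporadic.ThParts.FiveCubeChecks2
import Cfsg.Agent.Lib.Sporadic.ThParts.FiveCubeChecks3
import Cfsg.Agent.Lib.Sporadic.ThParts.FiveCubeChecks4
import Cfsg.Agent.Lib.Sporadic.ThParts.FiveCubeChecks5
import Cfsg.Agent.Lib.Sporadic.ThParts.FiveCubeChecks6
import Cfsg.Agent.Lib.Sporadic.ThParts.FiveCubeTests0

/-!
# A divisor 125 of the order of the presented Thompson group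
-/

set_option autoImplicit false
set_option maxRecDepth 100000

namespace CfsgLib.Sporadic.ThParts.FiveCube

open ThGL

theorem node0_in : InS rep.range (unpack node0) :=
  InS.prod (List.forall_mem_cons.2 ⟨(inS_lett' 3 (by norm_num)), List.forall_mem_cons.2 ⟨(inS_lett' 8 (by norm_num)), List.forall_mem_cons.2 ⟨(inS_lett' 10 (by norm_num)), List.forall_mem_cons.2 ⟨(inS_lett' 3 (by norm_num)), List.forall_mem_cons.2 ⟨(inS_lett' 10 (by norm_num)), List.forall_mem_nil _⟩⟩⟩⟩⟩) node0_chk.1 node0_chk.2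

theorem node1_in : InS rep.range (unpack node1) :=
  InS.prod (List.forall_mem_cons.2 ⟨(inS_lett' 7 (by norm_num)), List.forall_mem_cons.2 ⟨(inS_lett' 0 (by norm_num)), List.forall_mem_cons.2 ⟨(inS_lett' 6 (by norm_num)), List.forall_mem_cons.2 ⟨(inS_lett' 6 (by norm_num)), List.forall_mem_cons.2 ⟨(inS_lett' 7 (by norm_num)), List.forall_mem_cons.2 ⟨(inS_lett' 7 (by norm_num)), List.forall_mem_cons.2 ⟨(inS_lett' 7 (by norm_num)), List.forall_mem_cons.2 ⟨(inS_lett' 9 (by norm_num)), List.forall_mem_cons.2 ⟨(inS_lett' 4 (by norm_num)), List.forall_mem_cons.2 ⟨(inS_lett' 0 (by norm_num)), List.forall_mem_cons.2 ⟨(inS_lett' 2 (by norm_num)), List.forall_mem_cons.2 ⟨(inS_lett' 10 (by norm_num)), List.forall_mem_nil _⟩⟩⟩⟩⟩⟩⟩⟩⟩⟩⟩⟩) node1_chk.1 node1_chk.2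

theorem node2_in : InS rep.range (unpack node2) :=
  InS.prod (List.forall_mem_cons.2 ⟨(inS_lett' 8 (by norm_num)), List.forall_mem_cons.2 ⟨(inS_lett' 7 (by norm_num)), List.forall_mem_cons.2 ⟨(inS_lett' 8 (by norm_num)), List.forall_mem_cons.2 ⟨(inS_lett' 6 (by norm_num)), List.forall_mem_cons.2 ⟨(inS_lett' 3 (by norm_num)), List.forall_mem_cons.2 ⟨(inS_lett' 2 (by norm_num)), List.forall_mem_cons.2 ⟨(inS_lett' 0 (by norm_num)), List.forall_mem_cons.2 ⟨(inS_lett' 5 (by norm_num)), List.forall_mem_cons.2 ⟨(inS_lett' 10 (by norm_num)), List.forall_mem_cons.2 ⟨(inS_lett' 3 (by norm_num)), List.forall_mem_cons.2 ⟨(inS_lett' 10 (by norm_num)), List.forall_mem_cons.2 ⟨(inS_lett' 0 (by norm_num)), List.forall_mem_nil _⟩⟩⟩⟩⟩⟩⟩⟩⟩⟩⟩⟩) node2_chk.1 node2_chk.2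

theorem node3_in : InS rep.range (unpack node3) :=
  InS.prod (List.forall_mem_cons.2 ⟨(inS_lett' 6 (by norm_num)), List.forall_mem_cons.2 ⟨(inS_lett' 3 (by norm_num)), List.forall_mem_cons.2 ⟨(inS_lett' 8 (by norm_num)), List.forall_mem_cons.2 ⟨(inS_lett' 9 (by norm_num)), List.forall_mem_cons.2 ⟨(inS_lett' 9 (by norm_num)), List.forall_mem_cons.2 ⟨(inS_lett' 10 (by norm_num)), List.forall_mem_cons.2 ⟨(inS_lett' 5 (by norm_num)), List.forall_mem_cons.2 ⟨(inS_lett' 10 (by norm_num)), List.forall_mem_cons.2 ⟨(inS_lett' 5 (by norm_num)), List.forall_mem_cons.2 ⟨(inS_lett' 7 (by norm_num)), List.forall_mem_cons.2 ⟨(inS_lett' 1 (by norm_num)), List.forall_mem_nil _⟩⟩⟩⟩⟩⟩⟩⟩⟩⟩⟩) node3_chk.1 node3_chk.2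

theorem node4_in : InS rep.range (unpack node4) :=
  InS.prod (List.forall_mem_cons.2 ⟨node2_in, List.forall_mem_cons.2 ⟨node3_in, List.forall_mem_nil _⟩⟩) node4_chk.1 node4_chk.2

theorem node5_in : InS rep.range (unpack node5) :=
  InS.prod (List.forall_mem_cons.2 ⟨node4_in, List.forall_mem_cons.2 ⟨(inS_lett' 0 (by norm_num)), List.forall_mem_cons.2 ⟨(inS_lett' 1 (by norm_num)), List.forall_mem_cons.2 ⟨(inS_lett' 10 (by norm_num)), List.forall_mem_cons.2 ⟨(inS_lett' 8 (by norm_num)), List.forall_mem_cons.2 ⟨(inS_lett' 7 (by norm_num)), List.forall_mem_nil _⟩⟩⟩⟩⟩⟩) node5_chk.1 node5_chk.2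

theorem node6_in : InS rep.range (unpack node6) :=
  InS.prod (List.forall_mem_cons.2 ⟨node5_in, List.forall_mem_cons.2 ⟨node5_in, List.forall_mem_cons.2 ⟨node5_in, List.forall_mem_cons.2 ⟨node4_in, List.forall_mem_cons.2 ⟨(inS_lett' 5 (by norm_num)), List.forall_mem_cons.2 ⟨(inS_lett' 7 (by norm_num)), List.forall_mem_cons.2 ⟨(inS_lett' 3 (by norm_num)), List.forall_mem_cons.2 ⟨(inS_lett' 4 (by norm_num)), List.forall_mem_cons.2 ⟨(inS_lett' 8 (by norm_num)), List.forall_mem_cons.2 ⟨(inS_lett' 2 (by norm_num)), List.forall_mem_cons.2 ⟨(inS_lett' 3 (by norm_num)), List.forall_mem_cons.2 ⟨(inS_lett' 5 (by norm_num)), List.forall_mem_nil _⟩⟩⟩⟩⟩⟩⟩⟩⟩⟩⟩⟩) node6_chk.1 node6_chk.2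

theorem node7_in : InS rep.range (unpack node7) :=
  InS.prod (List.forall_mem_cons.2 ⟨(inS_lett' 1 (by norm_num)), List.forall_mem_cons.2 ⟨(inS_lett' 10 (by norm_num)), List.forall_mem_cons.2 ⟨(inS_lett' 8 (by norm_num)), List.forall_mem_cons.2 ⟨(inS_lett' 7 (by norm_num)), List.forall_mem_cons.2 ⟨(inS_lett' 8 (by norm_num)), List.forall_mem_cons.2 ⟨(inS_lett' 7 (by norm_num)), List.forall_mem_cons.2 ⟨(inS_lett' 6 (by norm_num)), List.forall_mem_cons.2 ⟨(inS_lett' 6 (by norm_num)), List.forall_mem_cons.2 ⟨(inS_lett' 5 (by norm_num)), List.forall_mem_cons.2 ⟨(inS_lett' 3 (by norm_num)), List.forall_mem_cons.2 ⟨(inS_lett' 9 (by norm_num)), List.forall_mem_cons.2 ⟨(inS_lett' 0 (by norm_num)), List.forall_mem_nil _⟩⟩⟩⟩⟩⟩⟩⟩⟩⟩⟩⟩) node7_chk.1 node7_chk.2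

theorem node8_in : InS rep.range (unpack node8) :=
  InS.prod (List.forall_mem_cons.2 ⟨(inS_lett' 7 (by norm_num)), List.forall_mem_cons.2 ⟨(inS_lett' 3 (by norm_num)), List.forall_mem_cons.2 ⟨(inS_lett' 7 (by norm_num)), List.forall_mem_cons.2 ⟨(inS_lett' 8 (by norm_num)), List.forall_mem_cons.2 ⟨(inS_lett' 0 (by norm_num)), List.forall_mem_cons.2 ⟨(inS_lett' 2 (by norm_num)), List.forall_mem_cons.2 ⟨(inS_lett' 3 (by norm_num)), List.forall_mem_cons.2 ⟨(inS_lett' 9 (by norm_num)), List.forall_mem_cons.2 ⟨(inS_lett' 5 (by norm_num)), List.forall_mem_cons.2 ⟨(inS_lett' 10 (by norm_num)), List.forall_mem_cons.2 ⟨(inS_lett' 5 (by norm_num)), List.forall_mem_nil _⟩⟩⟩⟩⟩⟩⟩⟩⟩⟩⟩) node8_chk.1 node8_chk.2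

theorem node9_in : InS rep.range (unpack node9) :=
  InS.prod (List.forall_mem_cons.2 ⟨node7_in, List.forall_mem_cons.2 ⟨node8_in, List.forall_mem_nil _⟩⟩) node9_chk.1 node9_chk.2

theorem node10_in : InS rep.range (unpack node10) :=
  InS.prod (List.forall_mem_cons.2 ⟨node9_in, List.forall_mem_cons.2 ⟨(inS_lett' 10 (by norm_num)), List.forall_mem_cons.2 ⟨(inS_lett' 5 (by norm_num)), List.forall_mem_cons.2 ⟨(inS_lett' 7 (by norm_num)), List.forall_mem_cons.2 ⟨(inS_lett' 1 (by norm_num)), List.forall_mem_cons.2 ⟨(inS_lett' 0 (by norm_num)), List.forall_mem_nil _⟩⟩⟩⟩⟩⟩) node10_chk.1 node10_chk.2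

theorem node11_in : InS rep.range (unpack node11) :=
  InS.prod (List.forall_mem_cons.2 ⟨(inS_lett' 8 (by norm_num)), List.forall_mem_cons.2 ⟨(inS_lett' 10 (by norm_num)), List.forall_mem_cons.2 ⟨(inS_lett' 6 (by norm_num)), List.forall_mem_cons.2 ⟨(inS_lett' 0 (by norm_num)), List.forall_mem_cons.2 ⟨(inS_lett' 3 (by norm_num)), List.forall_mem_cons.2 ⟨(inS_lett' 9 (by norm_num)), List.forall_mem_cons.2 ⟨(inS_lett' 7 (by norm_num)), List.forall_mem_cons.2 ⟨(inS_lett' 9 (by norm_num)), List.forall_mem_cons.2 ⟨(inS_lett' 5 (by norm_num)), List.forall_mem_cons.2 ⟨(inS_lett' 9 (by norm_num)), List.forall_mem_cons.2 ⟨(inS_lett' 4 (by norm_num)), List.forall_mem_cons.2 ⟨node10_in, List.forall_mem_nil _⟩⟩⟩⟩⟩⟩⟩⟩⟩⟩⟩⟩) node11_chk.1 node11_chk.2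

theorem node12_in : InS rep.range (unpack node12) :=
  InS.prod (List.forall_mem_cons.2 ⟨node10_in, List.forall_mem_cons.2 ⟨node10_in, List.forall_mem_cons.2 ⟨node9_in, List.forall_mem_nil _⟩⟩⟩) node12_chk.1 node12_chk.2

theorem node13_in : InS rep.range (unpack node13) :=
  InS.prod (List.forall_mem_cons.2 ⟨node6_in, List.forall_mem_cons.2 ⟨node11_in, List.forall_mem_cons.2 ⟨node12_in, List.forall_mem_nil _⟩⟩⟩) node13_chk.1 node13_chk.2

theorem node14_in : InS rep.range (unpack node14) :=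
  InS.prod (List.forall_mem_cons.2 ⟨(inS_lett' 4 (by norm_num)), List.forall_mem_cons.2 ⟨(inS_lett' 2 (by norm_num)), List.forall_mem_cons.2 ⟨(inS_lett' 10 (by norm_num)), List.forall_mem_cons.2 ⟨(inS_lett' 2 (by norm_num)), List.forall_mem_cons.2 ⟨node13_in, List.forall_mem_nil _⟩⟩⟩⟩⟩) node14_chk.1 node14_chk.2

theorem node15_in : InS rep.range (unpack node15) :=
  InS.prod (List.forall_mem_cons.2 ⟨node1_in, List.forall_mem_cons.2 ⟨node14_in, List.forall_mem_nil _⟩⟩) node15_chk.1 node15_chk.2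

theorem node16_in : InS rep.range (unpack node16) :=
  InS.prod (List.forall_mem_cons.2 ⟨(inS_lett' 10 (by norm_num)), List.forall_mem_cons.2 ⟨(inS_lett' 5 (by norm_num)), List.forall_mem_cons.2 ⟨(inS_lett' 6 (by norm_num)), List.forall_mem_cons.2 ⟨(inS_lett' 3 (by norm_num)), List.forall_mem_cons.2 ⟨(inS_lett' 7 (by norm_num)), List.forall_mem_cons.2 ⟨(inS_lett' 6 (by norm_num)), List.forall_mem_cons.2 ⟨(inS_lett' 6 (by norm_num)), List.forall_mem_cons.2 ⟨(inS_lett' 1 (by norm_num)), List.forall_mem_cons.2 ⟨(inS_lett' 5 (by norm_num)), List.forall_mem_cons.2 ⟨(inS_lett' 3 (by norm_num)), List.forall_mem_cons.2 ⟨(inS_lett' 5 (by norm_num)), List.forall_mem_cons.2 ⟨(inS_lett' 4 (by norm_num)), List.forall_mem_nil _⟩⟩⟩⟩⟩⟩⟩⟩⟩⟩⟩⟩) node16_chk.1 node16_chk.2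

theorem node17_in : InS rep.range (unpack node17) :=
  InS.prod (List.forall_mem_cons.2 ⟨(inS_lett' 8 (by norm_num)), List.forall_mem_cons.2 ⟨(inS_lett' 4 (by norm_num)), List.forall_mem_cons.2 ⟨(inS_lett' 5 (by norm_num)), List.forall_mem_cons.2 ⟨(inS_lett' 5 (by norm_num)), List.forall_mem_cons.2 ⟨(inS_lett' 3 (by norm_num)), List.forall_mem_cons.2 ⟨(inS_lett' 4 (by norm_num)), List.forall_mem_cons.2 ⟨(inS_lett' 1 (by norm_num)), List.forall_mem_cons.2 ⟨(inS_lett' 0 (by norm_num)), List.forall_mem_cons.2 ⟨(inS_lett' 9 (by norm_num)), List.forall_mem_cons.2 ⟨(inS_lett' 4 (by norm_num)), List.forall_mem_nil _⟩⟩⟩⟩⟩⟩⟩⟩⟩⟩) node17_chk.1 node17_chk.2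

theorem node18_in : InS rep.range (unpack node18) :=
  InS.prod (List.forall_mem_cons.2 ⟨node16_in, List.forall_mem_cons.2 ⟨node17_in, List.forall_mem_nil _⟩⟩) node18_chk.1 node18_chk.2

theorem node19_in : InS rep.range (unpack node19) :=
  InS.prod (List.forall_mem_cons.2 ⟨node18_in, List.forall_mem_cons.2 ⟨node18_in, List.forall_mem_cons.2 ⟨node13_in, List.forall_mem_cons.2 ⟨node18_in, List.forall_mem_nil _⟩⟩⟩⟩) node19_chk.1 node19_chk.2

theorem gens_in : ∀ G ∈ gens, InS rep.range G :=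
  List.forall_mem_cons.2 ⟨node0_in, List.forall_mem_cons.2 ⟨node15_in, List.forall_mem_cons.2 ⟨node19_in, List.forall_mem_nil _⟩⟩⟩

theorem gen1_in : InS (gensSub 248 gens) (unpack node15) :=
  inS_gens (List.get_mem gens (⟨1, Nat.le_of_ble_eq_true rfl⟩ : Fin gens.length)) (gens_in _ (List.get_mem gens (⟨1, Nat.le_of_ble_eq_true rfl⟩ : Fin gens.length)))

theorem stab0_in : InS (gensSub 248 gens) (unpack stab0) :=
  InS.prod (List.forall_mem_cons.2 ⟨gen1_in, List.forall_mem_nil _⟩) stab0_chk.1 stab0_chk.2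

theorem stabs_in : ∀ H ∈ stabs, InS (gensSub 248 gens) H :=
  List.forall_mem_cons.2 ⟨stab0_in, List.forall_mem_nil _⟩

theorem stabs_fix : stabs.all (fun H => Nat.beq (img 248 (spread start) H) (spread start)) = true := by
  decide +kernel

theorem start_ok : rootOk 248 (spread start) = true := by decide +kernel

theorem chk : ∀ t < 25, test t = true := by
  intro t ht
  simpa [Nat.add_sub_cancel' (show 0 ≤ t by omega)] using chk0 (t - 0) (by omega)

theorem startTwo_ok : rootOk 248 (spread startTwo) = true := by decide +kernel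

theorem chkTwo : ∀ t < 5, testTwo t = true := by
  intro t ht
  simpa [Nat.add_sub_cancel' (show 0 ≤ t by omega)] using chkTwo0 (t - 0) (by omega)

theorem dvd : 125 ∣ Nat.card Cfsg.Spor.Th :=
  (show 125 = 25 * 5 from rfl) ▸ (chain_dvd start_ok startTwo_ok (Nat.le_of_ble_eq_true rfl) (Nat.le_of_ble_eq_true rfl)
    gens_in stabs_in (fun H hH => Nat.eq_of_beq_eq_true (List.all_eq_true.1 stabs_fix H hH)) chk chkTwo).trans range_dvd

end CfsgLib.Sporadic.ThParts.FiveCube
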