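import Cfsg.Agent.Lib.Sporadic.ThParts.NineteenChecks0
import Cfsg.Agent.Lib.Sporadic.ThParts.NineteenTests0

/-!
# A divisor 19 of the order of the presented Thompson group
-/

set_option autoImplicit false
set_option maxRecDepth 100000

namespace CfsgLib.Sporadic.ThParts.Nineteen

open ThGL

theorem node0_in : InS rep.range (unpack node0) :=
  InS.prod (List.forall_mem_cons.2 ⟨(inS_lett' 3 (by norm_num)), List.forall_mem_cons.2 ⟨(inS_lett' 4 (by norm_num)), List.forall_mem_cons.2 ⟨(inS_lett' 1 (by norm_num)), List.forall_mem_cons.2 ⟨(inS_lett' 8 (by norm_num)), List.forall_mem_cons.2 ⟨(inS_lett' 10 (by norm_num)), List.forall_mem_nil _⟩⟩⟩⟩⟩) node0_chk.1 node0_chk.2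

theorem gens_in : ∀ G ∈ gens, InS rep.range G :=
  List.forall_mem_cons.2 ⟨node0_in, List.forall_mem_nil _⟩

theorem start_ok : rootOk 248 (spread start) = true := by decide +kernel

theorem chk : ∀ t < 19, test t = true := by
  intro t ht
  simpa [Nat.add_sub_cancel' (show 0 ≤ t by omega)] using chk0 (t - 0) (by omega)

theorem dvd : 19 ∣ Nat.card Cfsg.Spor.Th :=
  ((tree_dvd' (n := 248) (Nat.le_of_ble_eq_true rfl) (Nat.le_of_ble_eq_true rfl) start_ok (Nat.le_of_ble_eq_true rfl)
    _ _ _ gens_in chk).trans (Subgroup.card_dvd_of_le (gensSub_le gens_in))).trans range_dvd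

end CfsgLib.Sporadic.ThParts.Nineteen
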