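import Cfsg.Agent.Lib.Sporadic.ThParts.Base
import Cfsg.Agent.Lib.Sporadic.ThParts.SevenSqData

/-!
# Checks of the matrices, part 1
-/

set_option autoImplicit false
set_option maxRecDepth 100000

namespace CfsgLib.Sporadic.ThParts.SevenSq

open ThGL

theorem ginv1_chk : okRows 248 (unpack ginv1) = true ∧ isOne 248 [(unpack node2), (unpack ginv1)] = true := by
  decide +kernel

theorem stab0_chk : okRows 248 (unpack stab0) = true ∧ prodIs [(ThGL.lett 5), (ThGL.lett 5), (unpack ginv1)] (unpack stab0) = true := by
  decide +kernel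

end CfsgLib.Sporadic.ThParts.SevenSq
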