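import Cfsg.Agent.Lib.Sporadic.ThParts.SevenSqChecks0
import Cfsg.Agent.Lib.Sporadic.ThParts.SevenSqChecks1
import Cfsg.Agent.Lib.Sporadic.ThParts.SevenSqTests0

/-!
# A divisor 49 of the order of the presented Thompson group
-/

set_option autoImplicit false
set_option maxRecDepth 100000

namespace CfsgLib.Sporadic.ThParts.SevenSq

open ThGL

theorem node0_in : InS rep.range (unpack node0) :=
  InS.prod (List.forall_mem_cons.2 ⟨(inS_lett' 3 (by norm_num)), List.forall_mem_cons.2 ⟨(inS_lett' 9 (by norm_num)), List.forall_mem_cons.2 ⟨(inS_lett' 1 (by norm_num)), List.forall_mem_cons.2 ⟨(inS_lett' 2 (by norm_num)), List.forall_mem_cons.2 ⟨(inS_lett' 6 (by norm_num)), List.forall_mem_cons.2 ⟨(inS_lett' 3 (by norm_num)), List.forall_mem_cons.2 ⟨(inS_lett' 1 (by norm_num)), List.forall_mem_cons.2 ⟨(inS_lett' 8 (by norm_num)), List.forall_mem_cons.2 ⟨(inS_lett' 2 (by norm_num)), List.forall_mem_cons.2 ⟨(inS_lett' 9 (by norm_num)), List.forall_mem_cons.2 ⟨(inS_lett'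 0 (by norm_num)), List.forall_mem_cons.2 ⟨(inS_lett' 6 (by norm_num)), List.forall_mem_nil _⟩⟩⟩⟩⟩⟩⟩⟩⟩⟩⟩⟩) node0_chk.1 node0_chk.2

theorem node1_in : InS rep.range (unpack node1) :=
  InS.prod (List.forall_mem_cons.2 ⟨(inS_lett' 1 (by norm_num)), List.forall_mem_cons.2 ⟨(inS_lett' 8 (by norm_num)), List.forall_mem_nil _⟩⟩) node1_chk.1 node1_chk.2

theorem node2_in : InS rep.range (unpack node2) :=
  InS.prod (List.forall_mem_cons.2 ⟨node0_in, List.forall_mem_cons.2 ⟨node1_in, List.forall_mem_nil _⟩⟩) node2_chk.1 node2_chk.2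

theorem gens_in : ∀ G ∈ gens, InS rep.range G :=
  List.forall_mem_cons.2 ⟨(inS_lett' 5 (by norm_num)), List.forall_mem_cons.2 ⟨node2_in, List.forall_mem_nil _⟩⟩

theorem gen0_in : InS (gensSub 248 gens) (ThGL.lett 5) :=
  inS_gens (List.get_mem gens (⟨0, Nat.le_of_ble_eq_true rfl⟩ : Fin gens.length)) (gens_in _ (List.get_mem gens (⟨0, Nat.le_of_ble_eq_true rfl⟩ : Fin gens.length)))

theorem gen1_in : InS (gensSub 248 gens) (unpack node2) :=
  inS_gens (List.get_mem gens (⟨1, Nat.le_of_ble_eq_true rfl⟩ : Fin gens.length)) (gens_in _ (List.get_mem gens (⟨1, Nat.le_of_ble_eq_true rfl⟩ : Fin gens.length)))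

theorem ginv1_in : InS (gensSub 248 gens) (unpack ginv1) :=
  InS.inv gen1_in ginv1_chk.1 ginv1_chk.2

theorem stab0_in : InS (gensSub 248 gens) (unpack stab0) :=
  InS.prod (List.forall_mem_cons.2 ⟨gen0_in, List.forall_mem_cons.2 ⟨gen0_in, List.forall_mem_cons.2 ⟨ginv1_in, List.forall_mem_nil _⟩⟩⟩) stab0_chk.1 stab0_chk.2

theorem stabs_in : ∀ H ∈ stabs, InS (gensSub 248 gens) H :=
  List.forall_mem_cons.2 ⟨stab0_in, List.forall_mem_nil _⟩

theorem stabs_fix : stabs.all (fun H => Nat.beq (img 248 (spread start) H) (spread start)) = true := by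
  decide +kernel

theorem start_ok : rootOk 248 (spread start) = true := by decide +kernel

theorem chk : ∀ t < 7, test t = true := by
  intro t ht
  simpa [Nat.add_sub_cancel' (show 0 ≤ t by omega)] using chk0 (t - 0) (by omega)

theorem startTwo_ok : rootOk 248 (spread startTwo) = true := by decide +kernel

theorem chkTwo : ∀ t < 7, testTwo t = true := by
  intro t ht
  simpa [Nat.add_sub_cancel' (show 0 ≤ t by omega)] using chkTwo0 (t - 0) (by omega)

theorem dvd : 49 ∣ Nat.card Cfsg.Spor.Th :=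
  (show 49 = 7 * 7 from rfl) ▸ (chain_dvd start_ok startTwo_ok (Nat.le_of_ble_eq_true rfl) (Nat.le_of_ble_eq_true rfl)
    gens_in stabs_in (fun H hH => Nat.eq_of_beq_eq_true (List.all_eq_true.1 stabs_fix H hH)) chk chkTwo).trans range_dvd

end CfsgLib.Sporadic.ThParts.SevenSq
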