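import Cfsg.Agent.Lib.Sporadic.ThParts.Base
import Cfsg.Agent.Lib.Sporadic.ThParts.ThreePartData

/-!
# Checks of the matrices, part 1
-/

set_option autoImplicit false
set_option maxRecDepth 100000

namespace CfsgLib.Sporadic.ThParts.ThreePart

open ThGL

theorem node3_chk : okRows 248 (unpack node3) = true ∧ prodIs [(unpack node0), (unpack node1), (unpack node2)] (unpack node3) = true := by
  decide +kernel

theorem node4_chk : okRows 248 (unpack node4) = true ∧ prodIs [(ThGL.lett 9), (ThGL.lett 2), (ThGL.lett 10), (ThGL.lett 5), (ThGL.lett 10), (ThGL.lett 1), (ThGL.lett 8), (ThGL.lett 8), (ThGL.lett 4), (ThGL.lett 10), (ThGL.lett 0), (ThGL.lett 3)] (unpack node4) = true := by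
  decide +kernel

theorem node5_chk : okRows 248 (unpack node5) = true ∧ prodIs [(ThGL.lett 1), (ThGL.lett 6), (ThGL.lett 4), (ThGL.lett 0), (ThGL.lett 10), (ThGL.lett 8), (ThGL.lett 4), (ThGL.lett 8), (ThGL.lett 8), (ThGL.lett 10), (ThGL.lett 9), (ThGL.lett 2)] (unpack node5) = true := by
  decide +kernel

end CfsgLib.Sporadic.ThParts.ThreePart
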