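import Cfsg.Agent.Lib.Sporadic.ThParts.Base
import Cfsg.Agent.Lib.Sporadic.ThParts.ThreePartData

/-!
# Checks of the matrices, part 2
-/

set_option autoImplicit false
set_option maxRecDepth 100000

namespace CfsgLib.Sporadic.ThParts.ThreePart

open ThGL

theorem node6_chk : okRows 248 (unpack node6) = true ∧ prodIs [(ThGL.lett 7), (ThGL.lett 7), (ThGL.lett 9), (ThGL.lett 10), (ThGL.lett 2), (ThGL.lett 1), (ThGL.lett 7), (ThGL.lett 7), (ThGL.lett 8), (ThGL.lett 10), (ThGL.lett 5), (ThGL.lett 4)] (unpack node6) = true := by
  decide +kernel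

theorem node7_chk : okRows 248 (unpack node7) = true ∧ prodIs [(unpack node4), (unpack node5), (unpack node6), (ThGL.lett 5)] (unpack node7) = true := by
  decide +kernel

theorem node8_chk : okRows 248 (unpack node8) = true ∧ prodIs [(unpack node7), (unpack node7), (unpack node7)] (unpack node8) = true := by
  decide +kernel

end CfsgLib.Sporadic.ThParts.ThreePart
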