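import Cfsg.Agent.Lib.Sporadic.ThParts.Base
import Cfsg.Agent.Lib.Sporadic.ThParts.ThreePartData

/-!
# Checks of the matrices, part 3
-/

set_option autoImplicit false
set_option maxRecDepth 100000

namespace CfsgLib.Sporadic.ThParts.ThreePart

open ThGL

theorem node9_chk : okRows 248 (unpack node9) = true ∧ prodIs [(unpack node7), (unpack node3), (unpack node7), (unpack node7), (unpack node3), (unpack node7)] (unpack node9) = true := by
  decide +kernel

theorem ginv0_chk : okRows 248 (unpack ginv0) = true ∧ isOne 248 [(unpack node3), (unpack ginv0)] = true := by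
  decide +kernel

theorem ginv2_chk : okRows 248 (unpack ginv2) = true ∧ isOne 248 [(unpack node9), (unpack ginv2)] = true := by
  decide +kernel

end CfsgLib.Sporadic.ThParts.ThreePart
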