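import Cfsg.Agent.Lib.Sporadic.ThParts.ThreePartDefs

/-!
# The orbit checks, part 1
-/

set_option autoImplicit false
set_option maxRecDepth 100000

namespace CfsgLib.Sporadic.ThParts.ThreePart

theorem chk2 : ∀ t < 64, test (128 + t) = true := by
  decide +kernel

theorem chk3 : ∀ t < 51, test (192 + t) = true := by
  decide +kernel

end CfsgLib.Sporadic.ThParts.ThreePart
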