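import Cfsg.Agent.Lib.Sporadic.ThParts.ThreePartChecks0
import Cfsg.Agent.Lib.Sporadic.ThParts.ThreePartChecks1
import Cfsg.Agent.Lib.Sporadic.ThParts.ThreePartChecks2
import Cfsg.Agent.Lib.Sporadic.ThParts.ThreePartChecks3
import Cfsg.Agent.Lib.Sporadic.ThParts.ThreePartChecks4
import Cfsg.Agent.Lib.Sporadic.ThParts.ThreePartTests0
import Cfsg.Agent.Lib.Sporadic.ThParts.ThreePartTests1
import Cfsg.Agent.Lib.Sporadic.ThParts.ThreePartTests2
import Cfsg.Agent.Lib.Sporadic.ThParts.ThreePartTests3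

/-!
# A divisor 59049 of the order of the presented Thompson group
-/

set_option autoImplicit false
set_option maxRecDepth 100000

namespace CfsgLib.Sporadic.ThParts.ThreePart

open ThGL

theorem node0_in : InS rep.range (unpack node0) :=
  InS.prod (List.forall_mem_cons.2 ⟨(inS_lett' 0 (by norm_num)), List.forall_mem_cons.2 ⟨(inS_lett' 7 (by norm_num)), List.forall_mem_cons.2 ⟨(inS_lett' 6 (by norm_num)), List.forall_mem_cons.2 ⟨(inS_lett' 1 (by norm_num)), List.forall_mem_cons.2 ⟨(inS_lett' 5 (by norm_num)), List.forall_mem_cons.2 ⟨(inS_lett' 3 (by norm_num)), List.forall_mem_cons.2 ⟨(inS_lett' 10 (by norm_num)), List.forall_mem_cons.2 ⟨(inS_lett' 9 (by norm_num)), List.forall_mem_cons.2 ⟨(inS_lett' 9 (by norm_num)), List.forall_mem_cons.2 ⟨(inS_lett' 7 (by norm_num)), List.forall_mem_cons.2 ⟨(inS_lett' 3 (by norm_num)), List.forall_mem_cons.2 ⟨(inS_lett' 2 (by norm_num)), List.forall_mem_nil _⟩⟩⟩⟩⟩⟩⟩⟩⟩⟩⟩⟩) node0_chk.1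 node0_chk.2

theorem node1_in : InS rep.range (unpack node1) :=
  InS.prod (List.forall_mem_cons.2 ⟨(inS_lett' 6 (by norm_num)), List.forall_mem_cons.2 ⟨(inS_lett' 5 (by norm_num)), List.forall_mem_cons.2 ⟨(inS_lett' 6 (by norm_num)), List.forall_mem_cons.2 ⟨(inS_lett' 1 (by norm_num)), List.forall_mem_cons.2 ⟨(inS_lett' 3 (by norm_num)), List.forall_mem_cons.2 ⟨(inS_lett' 8 (by norm_num)), List.forall_mem_cons.2 ⟨(inS_lett' 8 (by norm_num)), List.forall_mem_cons.2 ⟨(inS_lett' 3 (by norm_num)), List.forall_mem_cons.2 ⟨(inS_lett' 1 (by norm_num)), List.forall_mem_cons.2 ⟨(inS_lett' 9 (by norm_num)), List.forall_mem_cons.2 ⟨(inS_lett' 2 (by norm_num)), List.forall_mem_cons.2 ⟨(inS_lett' 3 (by norm_num)), List.forall_mem_nil _⟩⟩⟩⟩⟩⟩⟩⟩⟩⟩⟩⟩) node1_chk.1 node1_chk.2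

theorem node2_in : InS rep.range (unpack node2) :=
  InS.prod (List.forall_mem_cons.2 ⟨(inS_lett' 5 (by norm_num)), List.forall_mem_cons.2 ⟨(inS_lett' 9 (by norm_num)), List.forall_mem_nil _⟩⟩) node2_chk.1 node2_chk.2

theorem node3_in : InS rep.range (unpack node3) :=
  InS.prod (List.forall_mem_cons.2 ⟨node0_in, List.forall_mem_cons.2 ⟨node1_in, List.forall_mem_cons.2 ⟨node2_in, List.forall_mem_nil _⟩⟩⟩) node3_chk.1 node3_chk.2

theorem node4_in : InS rep.range (unpack node4) :=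
  InS.prod (List.forall_mem_cons.2 ⟨(inS_lett' 9 (by norm_num)), List.forall_mem_cons.2 ⟨(inS_lett' 2 (by norm_num)), List.forall_mem_cons.2 ⟨(inS_lett' 10 (by norm_num)), List.forall_mem_cons.2 ⟨(inS_lett' 5 (by norm_num)), List.forall_mem_cons.2 ⟨(inS_lett' 10 (by norm_num)), List.forall_mem_cons.2 ⟨(inS_lett' 1 (by norm_num)), List.forall_mem_cons.2 ⟨(inS_lett' 8 (by norm_num)), List.forall_mem_cons.2 ⟨(inS_lett' 8 (by norm_num)), List.forall_mem_cons.2 ⟨(inS_lett' 4 (by norm_num)), List.forall_mem_cons.2 ⟨(inS_lett' 10 (by norm_num)), List.forall_mem_cons.2 ⟨(inS_lett' 0 (by norm_num)), List.forall_mem_cons.2 ⟨(inS_lett' 3 (by norm_num)), List.forall_mem_nil _⟩⟩⟩⟩⟩⟩⟩⟩⟩⟩⟩⟩) node4_chk.1 node4_chk.2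

theorem node5_in : InS rep.range (unpack node5) :=
  InS.prod (List.forall_mem_cons.2 ⟨(inS_lett' 1 (by norm_num)), List.forall_mem_cons.2 ⟨(inS_lett' 6 (by norm_num)), List.forall_mem_cons.2 ⟨(inS_lett' 4 (by norm_num)), List.forall_mem_cons.2 ⟨(inS_lett' 0 (by norm_num)), List.forall_mem_cons.2 ⟨(inS_lett' 10 (by norm_num)), List.forall_mem_cons.2 ⟨(inS_lett' 8 (by norm_num)), List.forall_mem_cons.2 ⟨(inS_lett' 4 (by norm_num)), List.forall_mem_cons.2 ⟨(inS_lett' 8 (by norm_num)), List.forall_mem_cons.2 ⟨(inS_lett' 8 (by norm_num)), List.forall_mem_cons.2 ⟨(inS_lett' 10 (by norm_num)), List.forall_mem_cons.2 ⟨(inS_lett' 9 (by norm_num)), List.forall_mem_cons.2 ⟨(inS_lett' 2 (by norm_num)), List.forall_mem_nil _⟩⟩⟩⟩⟩⟩⟩⟩⟩⟩⟩⟩) node5_chk.1 node5_chk.2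

theorem node6_in : InS rep.range (unpack node6) :=
  InS.prod (List.forall_mem_cons.2 ⟨(inS_lett' 7 (by norm_num)), List.forall_mem_cons.2 ⟨(inS_lett' 7 (by norm_num)), List.forall_mem_cons.2 ⟨(inS_lett' 9 (by norm_num)), List.forall_mem_cons.2 ⟨(inS_lett' 10 (by norm_num)), List.forall_mem_cons.2 ⟨(inS_lett' 2 (by norm_num)), List.forall_mem_cons.2 ⟨(inS_lett' 1 (by norm_num)), List.forall_mem_cons.2 ⟨(inS_lett' 7 (by norm_num)), List.forall_mem_cons.2 ⟨(inS_lett' 7 (by norm_num)), List.forall_mem_cons.2 ⟨(inS_lett' 8 (by norm_num)), List.forall_mem_cons.2 ⟨(inS_lett' 10 (by norm_num)), List.forall_mem_cons.2 ⟨(inS_lett' 5 (by norm_num)), List.forall_mem_cons.2 ⟨(inS_lett' 4 (by norm_num)), List.forall_mem_nil _⟩⟩⟩⟩⟩⟩⟩⟩⟩⟩⟩⟩) node6_chk.1 node6_chk.2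

theorem node7_in : InS rep.range (unpack node7) :=
  InS.prod (List.forall_mem_cons.2 ⟨node4_in, List.forall_mem_cons.2 ⟨node5_in, List.forall_mem_cons.2 ⟨node6_in, List.forall_mem_cons.2 ⟨(inS_lett' 5 (by norm_num)), List.forall_mem_nil _⟩⟩⟩⟩) node7_chk.1 node7_chk.2

theorem node8_in : InS rep.range (unpack node8) :=
  InS.prod (List.forall_mem_cons.2 ⟨node7_in, List.forall_mem_cons.2 ⟨node7_in, List.forall_mem_cons.2 ⟨node7_in, List.forall_mem_nil _⟩⟩⟩) node8_chk.1 node8_chk.2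

theorem node9_in : InS rep.range (unpack node9) :=
  InS.prod (List.forall_mem_cons.2 ⟨node7_in, List.forall_mem_cons.2 ⟨node3_in, List.forall_mem_cons.2 ⟨node7_in, List.forall_mem_cons.2 ⟨node7_in, List.forall_mem_cons.2 ⟨node3_in, List.forall_mem_cons.2 ⟨node7_in, List.forall_mem_nil _⟩⟩⟩⟩⟩⟩) node9_chk.1 node9_chk.2

theorem gens_in : ∀ G ∈ gens, InS rep.range G :=
  List.forall_mem_cons.2 ⟨node3_in, List.forall_mem_cons.2 ⟨node8_in, List.forall_mem_cons.2 ⟨node9_in, List.forall_mem_nil _⟩⟩⟩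

theorem gen0_in : InS (gensSub 248 gens) (unpack node3) :=
  inS_gens (List.get_mem gens (⟨0, Nat.le_of_ble_eq_true rfl⟩ : Fin gens.length)) (gens_in _ (List.get_mem gens (⟨0, Nat.le_of_ble_eq_true rfl⟩ : Fin gens.length)))

theorem gen1_in : InS (gensSub 248 gens) (unpack node8) :=
  inS_gens (List.get_mem gens (⟨1, Nat.le_of_ble_eq_true rfl⟩ : Fin gens.length)) (gens_in _ (List.get_mem gens (⟨1, Nat.le_of_ble_eq_true rfl⟩ : Fin gens.length)))

theorem gen2_in : InS (gensSub 248 gens) (unpack node9) :=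
  inS_gens (List.get_mem gens (⟨2, Nat.le_of_ble_eq_true rfl⟩ : Fin gens.length)) (gens_in _ (List.get_mem gens (⟨2, Nat.le_of_ble_eq_true rfl⟩ : Fin gens.length)))

theorem ginv0_in : InS (gensSub 248 gens) (unpack ginv0) :=
  InS.inv gen0_in ginv0_chk.1 ginv0_chk.2

theorem ginv2_in : InS (gensSub 248 gens) (unpack ginv2) :=
  InS.inv gen2_in ginv2_chk.1 ginv2_chk.2

theorem stab0_in : InS (gensSub 248 gens) (unpack stab0) :=
  InS.prod (List.forall_mem_cons.2 ⟨gen1_in, List.forall_mem_nil _⟩) stab0_chk.1 stab0_chk.2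

theorem stab1_in : InS (gensSub 248 gens) (unpack stab1) :=
  InS.prod (List.forall_mem_cons.2 ⟨gen2_in, List.forall_mem_cons.2 ⟨ginv0_in, List.forall_mem_nil _⟩⟩) stab1_chk.1 stab1_chk.2

theorem stab2_in : InS (gensSub 248 gens) (unpack stab2) :=
  InS.prod (List.forall_mem_cons.2 ⟨gen0_in, List.forall_mem_cons.2 ⟨gen2_in, List.forall_mem_cons.2 ⟨gen0_in, List.forall_mem_cons.2 ⟨gen2_in, List.forall_mem_cons.2 ⟨ginv0_in, List.forall_mem_cons.2 ⟨ginv0_in, List.forall_mem_cons.2 ⟨ginv2_in, List.forall_mem_cons.2 ⟨ginv0_in, List.forall_mem_nil _⟩⟩⟩⟩⟩⟩⟩⟩) stab2_chk.1 stab2_chk.2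

theorem stabs_in : ∀ H ∈ stabs, InS (gensSub 248 gens) H :=
  List.forall_mem_cons.2 ⟨stab0_in, List.forall_mem_cons.2 ⟨stab1_in, List.forall_mem_cons.2 ⟨stab2_in, List.forall_mem_nil _⟩⟩⟩

theorem stabs_fix : stabs.all (fun H => Nat.beq (img 248 (spread start) H) (spread start)) = true := by
  decide +kernel

theorem start_ok : rootOk 248 (spread start) = true := by decide +kernel

theorem chk : ∀ t < 243, test t = true := by
  intro t ht
  by_cases h0 : t < 64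
  · simpa [Nat.add_sub_cancel' (show 0 ≤ t by omega)] using chk0 (t - 0) (by omega)
  by_cases h1 : t < 128
  · simpa [Nat.add_sub_cancel' (show 64 ≤ t by omega)] using chk1 (t - 64) (by omega)
  by_cases h2 : t < 192
  · simpa [Nat.add_sub_cancel' (show 128 ≤ t by omega)] using chk2 (t - 128) (by omega)
  simpa [Nat.add_sub_cancel' (show 192 ≤ t by omega)] using chk3 (t - 192) (by omega)

theorem startTwo_ok : rootOk 248 (spread startTwo) = true := by decide +kernel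

theorem chkTwo : ∀ t < 243, testTwo t = true := by
  intro t ht
  by_cases h0 : t < 64
  · simpa [Nat.add_sub_cancel' (show 0 ≤ t by omega)] using chkTwo0 (t - 0) (by omega)
  by_cases h1 : t < 128
  · simpa [Nat.add_sub_cancel' (show 64 ≤ t by omega)] using chkTwo1 (t - 64) (by omega)
  by_cases h2 : t < 192
  · simpa [Nat.add_sub_cancel' (show 128 ≤ t by omega)] using chkTwo2 (t - 128) (by omega)
  simpa [Nat.add_sub_cancel' (show 192 ≤ t by omega)] using chkTwo3 (t - 192) (by omega)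

theorem dvd : 59049 ∣ Nat.card Cfsg.Spor.Th :=
  (show 59049 = 243 * 243 from rfl) ▸ (chain_dvd start_ok startTwo_ok (Nat.le_of_ble_eq_true rfl) (Nat.le_of_ble_eq_true rfl)
    gens_in stabs_in (fun H hH => Nat.eq_of_beq_eq_true (List.all_eq_true.1 stabs_fix H hH)) chk chkTwo).trans range_dvd

end CfsgLib.Sporadic.ThParts.ThreePart
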