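import Cfsg.Agent.Lib.Sporadic.ThParts.TwoPart
import Cfsg.Agent.Lib.Sporadic.ThParts.ThreePart
import Cfsg.Agent.Lib.Sporadic.ThParts.FiveCube
import Cfsg.Agent.Lib.Sporadic.ThParts.SevenSq
import Cfsg.Agent.Lib.Sporadic.ThParts.Thirteen
import Cfsg.Agent.Lib.Sporadic.ThParts.Nineteen
import Cfsg.Agent.Lib.Sporadic.ThParts.ThirtyOne

/-!
# The order of the presented Thompson group is divisible by 90745943887872000
-/

set_option autoImplicit false

namespace CfsgLib.Sporadic.ThParts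

/-- The lower bound on the order of the presented Thompson group. -/
theorem th_dvd_card : 90745943887872000 ∣ Nat.card Cfsg.Spor.Th := by
  have h1 : 32768 * 59049 ∣ Nat.card Cfsg.Spor.Th :=
    Nat.Coprime.mul_dvd_of_dvd_of_dvd (by norm_num) TwoPart.dvd ThreePart.dvd
  have h2 : 32768 * 59049 * 125 ∣ Nat.card Cfsg.Spor.Th :=
    Nat.Coprime.mul_dvd_of_dvd_of_dvd (by norm_num) h1 FiveCube.dvd
  have h3 : 32768 * 59049 * 125 * 49 ∣ Nat.card Cfsg.Spor.Th :=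
    Nat.Coprime.mul_dvd_of_dvd_of_dvd (by norm_num) h2 SevenSq.dvd
  have h4 : 32768 * 59049 * 125 * 49 * 13 ∣ Nat.card Cfsg.Spor.Th :=
    Nat.Coprime.mul_dvd_of_dvd_of_dvd (by norm_num) h3 Thirteen.dvd
  have h5 : 32768 * 59049 * 125 * 49 * 13 * 19 ∣ Nat.card Cfsg.Spor.Th :=
    Nat.Coprime.mul_dvd_of_dvd_of_dvd (by norm_num) h4 Nineteen.dvd
  have h6 : 32768 * 59049 * 125 * 49 * 13 * 19 * 31 ∣ Nat.card Cfsg.Spor.Th :=
    Nat.Coprime.mul_dvd_of_dvd_of_dvd (by norm_num) h5 ThirtyOne.dvd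
  norm_num at h6
  exact h6

end CfsgLib.Sporadic.ThParts
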