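import Cfsg.Agent.Lib.Sporadic.ThParts.Base
import Cfsg.Agent.Lib.Sporadic.ThParts.NineteenData

/-!
# Checks of the matrices, part 0
-/

set_option autoImplicit false
set_option maxRecDepth 100000

namespace CfsgLib.Sporadic.ThParts.Nineteen

open ThGL

theorem node0_chk : okRows 248 (unpack node0) = true ∧ prodIs [(ThGL.lett 3), (ThGL.lett 4), (ThGL.lett 1), (ThGL.lett 8), (ThGL.lett 10)] (unpack node0) = true := by
  decide +kernel

end CfsgLib.Sporadic.ThParts.Nineteen
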