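import Mathlib.Data.Nat.Notation

/-!
# Orbits of rows
-/

set_option autoImplicit false
set_option maxRecDepth 100000

namespace CfsgLib.Sporadic.ThParts.Nineteen

/-- The start. -/
def start : ℕ := 0x182a2a404151a55125aa2515999284016a6a9aa64990241916a2690a49815006426446409549551a85400959894686010a862995a0425802851546265222

/-- Points. -/
def pts0 : List ℕ := [
  0x1891425068a69669942546aa582598512868a1a14980a0446595510905641a25548454a244268a14a14aaa5956a846255126995a5984299959582640a02,
  0x9a8624a54125a4844164656a06824a664911066526a1aa52948069981448846288524a9091010440955a81950628829985641925a820049442a24a11516,
  0xa5552585619655420a022241595992198608a8692662095464651869089299108050505284641092899266599a6a201542648a2242a12086941a94964a8,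
  0xaa004148995aa050986a2154a8294412494586652a9008164008569a02084215068452a59484101555419292526926689809686a5081286864064055494,
  0x162852821916912a66456241959542a925a92841250a0555444811286262880094411821621a5122299058a504024892509868008042094168965a598160,
  0x182a2a404151a55125aa2515999284016a6a9aa64990241916a2690a49815006426446409549551a85400959894686010a862995a0425802851546265222,
  0x196624222981a0a0a849021a141448685912988a29904568006005a68a2014a9a590826918066a02129a049808990842542a0a515568a1944a6548640a92,
  0x19aa1a8845aa165a2a000109a959046151510846a119558662a492a5415084829a0582021a56052290155a19041110929241620684908142511041506025,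
  0x22aa692050429540650191519244165199414a6a15a99411448945081550a6981210a4284800881598a12601a2005592902241425916199464a1482a9850,
  0x2494061418420888648018a81a6048928960a19955444921826256a08408a216a450a8294618a0592a06a9112a521568455a60109a925041499a06696864,
  0x2910926092401044696511648654484006a21949a545589558051018500129912aaa441a915a40595a45618844119a0491658646269a46a29518a04a26a6,
  0x68a8862a4aa4561a8624162844a98a0a061645412869214109586681262942116924a0a062a961590008618914185969a096942129814559022099060095,
  0x85922088a9001129142296445920821881062208122825558841169a4608198198a82116a15200991250414a84562a840a89800544599828605a9a10a549,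
  0x9809881190450a42a25664159a421522601a821066a99804aa2165aaa886aa004681181916565681158246a8486061288a95a01a4410698811a5401041a9,
  0x98a19aa9628105a48166062aa95511a5455060442161086185959a0a5152656690592651a616484596558914049582590089945266142922a42569419465,
  0x9a218690a28250a5884105aa8620088661a425426848226a05a996282198080a694a8014499646652a89a01a654a9a681085a296488180a0a49404184190,
  0xa429084900262894696001224105660602a49552058011609a1254959a00a99aa248a8998a520260a8689605824510081804005549581a1265094191a481,
  0xa666a869916610214692684a492924491206a5559102a520440614282a4806510051028460655696019162a521165414a861aaa506851246089698052292,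
  0xa91506a196a928180216961021156851242205698a6201042462010981a89961845a982998952649a8612659490845a41a1292004a806914818a26840661]

/-- Tree. -/
def codes0 : List ℕ := [
  9437188, 13631505, 1048581, 10485760, 8388616, 0, 6291465, 17825802, 7340038, 5242896,
  16777227, 15728653, 3145742, 14680065, 2097154, 18874375, 4194316, 12582930, 11534339]

/-- Successors. -/
def succs0 : List (List ℕ) := [
  [3], [13], [14], [18],
  [0], [2], [8], [15],
  [4], [6], [7], [10],
  [16], [11], [12], [5],
  [9], [1], [17]]

/-- The table. -/
def ptsTab : List (List ℕ) := [pts0]

/-- The table. -/
def codesTab : List (List ℕ) := [codes0]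

/-- The table. -/
def succsTab : List (List (List ℕ)) := [succs0]

end CfsgLib.Sporadic.ThParts.Nineteen
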