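import Cfsg.Agent.Lib.Sporadic.ThParts.Orbit
import Cfsg.Agent.Lib.Sporadic.ThParts.NineteenData
import Cfsg.Agent.Lib.Sporadic.ThParts.NineteenRows

/-!
# The data of the orbit checks
-/

set_option autoImplicit false
set_option maxRecDepth 100000

namespace CfsgLib.Sporadic.ThParts.Nineteen

open ThGL

/-- An entry of a table in chunks of 64. -/
def look {α : Type} (d : α) (T : List (List α)) (t : ℕ) : α :=
  (T.getD (Nat.div t 64) []).getD (Nat.mod t 64) d

/-- The matrices. -/
noncomputable def gens : List (List ℕ) := [(unpack node0)]

/-- The test at one point. -/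
noncomputable def test (t : ℕ) : Bool :=
  treeOne 248 (spread start) 19 (fun t => spread (look 0 ptsTab t)) (look 0 codesTab) (look [] succsTab) gens t

end CfsgLib.Sporadic.ThParts.Nineteen
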