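import Cfsg.Agent.Lib.Sporadic.ThParts.Base
import Mathlib.GroupTheory.GroupAction.Quotient
import Mathlib.GroupTheory.Index

/-!
# Orbits of rows under stored matrices over the field with three elements

A row is packed as a square matrix whose other rows vanish. A closed tree of `N` images of a row gives
`N * |K|` as a divisor of the order of the generated group, `K` being any part of the stabiliser of the row.
-/

set_option autoImplicit false

namespace CfsgLib.Sporadic.ThParts

open ThGL

variable {n : ℕ}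

/-- The image of a packed row. -/
noncomputable def img (n v : ℕ) (G : List ℕ) : ℕ := ThGL.mul n v G

/-- The parent. -/
def parOf (c : ℕ) : ℕ := Nat.mod c 65536
/-- The generator. -/
def genOf (c : ℕ) : ℕ := Nat.mod (Nat.div c 65536) 16
/-- The depth. -/
def depOf (c : ℕ) : ℕ := Nat.div c 1048576

/-- The test of a closed tree at one point. -/
noncomputable def treeOne (n root N : ℕ) (pt code : ℕ → ℕ) (succs : ℕ → List ℕ) (Gs : List (List ℕ)) (t : ℕ) : Bool :=
  (Nat.ble N (Nat.succ t) || Nat.blt (pt t) (pt (Nat.succ t))) &&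
    forced' (fun c =>
      (Nat.beq (depOf c) 0 && Nat.beq (pt t) root) ||
      (Nat.blt (parOf c) N && Nat.blt (depOf (code (parOf c))) (depOf c) && Nat.blt (genOf c) Gs.length &&
        Nat.beq (img n (pt (parOf c)) (Gs.getD (genOf c) [])) (pt t))) (code t) &&
    (List.range Gs.length).all fun s =>
      Nat.blt ((succs t).getD s N) N && Nat.beq (img n (pt t) (Gs.getD s [])) (pt ((succs t).getD s N))
where
  /-- Feed a numeral to a test. -/
  forced' (g : ℕ → Bool) (m : ℕ) : Bool := Nat.rec (motive := fun _ => Bool) (g 0) (fun k _ => g (k + 1)) m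

theorem forced'_eq (g : ℕ → Bool) (m : ℕ) : treeOne.forced' g m = g m := by cases m <;> rfl

/-- A reduced row. -/
noncomputable def rootOk (n A : ℕ) : Bool := okRows n (A :: List.replicate (Nat.sub n 1) 0)

/-- The matrix with one row. -/
def rowMat (n A : ℕ) : Matrix (Fin n) (Fin n) (ZMod 3) :=
  Matrix.of fun i j => if (i : ℕ) = 0 then ((lane A j : ℕ) : ZMod 3) else 0

theorem good_root (hn : 0 < n) {A : ℕ} (h : rootOk n A = true) : Good n A (rowMat n A) := by
  obtain ⟨hA, hlt⟩ := (row_of_ok _ h).2 0 hn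
  simp only [List.getD_cons_zero] at hA hlt
  have hnn : n ≤ n * n := Nat.le_mul_self n
  refine ⟨fun l => if l < n then lane A l else 0, fun l => ?_, fun l hl => if_neg (by omega), ?_, fun i j => ?_⟩
  · dsimp only
    split
    · exact hlt _ ‹_›
    · norm_num
  · obtain ⟨m, hm⟩ := Nat.exists_eq_add_of_le hnn
    rw [hm, P_add,
      P_congr (L := n) (f := fun l => if l < n then lane A l else 0) (g := fun j => lane A j % 3)
        (fun l hl => by rw [if_pos hl, Nat.mod_eq_of_lt (hlt l hl)]), ← hA,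
      P_congr (L := m) (g := fun _ => 0) (fun l _ => if_neg (by omega))]
    simp [P]
  · show (if (i : ℕ) = 0 then ((lane A j : ℕ) : ZMod 3) else 0) =
      (((if (i : ℕ) * n + j < n then lane A ((i : ℕ) * n + j) else 0 : ℕ)) : ZMod 3)
    rcases Nat.eq_zero_or_pos (i : ℕ) with hi | hi
    · rw [hi, if_pos rfl, Nat.zero_mul, Nat.zero_add, if_pos j.2]
    · have : n ≤ (i : ℕ) * n := Nat.le_mul_of_pos_left n hi
      rw [if_neg (by omega), if_neg (by omega), Nat.cast_zero]

/-- The group generated by stored matrices. -/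
def gensSub (n : ℕ) (Gs : List (List ℕ)) : Subgroup (GL (Fin n) (ZMod 3)) :=
  Subgroup.closure {g | ∃ G ∈ Gs, g.val = dec n G}

theorem gensSub_le {Gs : List (List ℕ)} {S : Subgroup (GL (Fin n) (ZMod 3))} (h : ∀ G ∈ Gs, InS S G) : gensSub n Gs ≤ S := by
  refine (Subgroup.closure_le _).2 ?_
  rintro g ⟨G, hG, eg⟩
  obtain ⟨r, hr, er⟩ := (h G hG).2
  have e : g = r := Units.ext (eg.trans er.symm)
  exact e ▸ hr

theorem inS_gens {Gs : List (List ℕ)} {S : Subgroup (GL (Fin n) (ZMod 3))} {G : List ℕ} (hG : G ∈ Gs) (h : InS S G) :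
    InS (gensSub n Gs) G :=
  ⟨h.1, h.2.imp fun _ hg => ⟨Subgroup.subset_closure ⟨G, hG, hg.2⟩, hg.2⟩⟩

/-- The stabiliser of a packed row. -/
def fixSub (n A : ℕ) : Subgroup (GL (Fin n) (ZMod 3)) where
  carrier := {x | rowMat n A * x.val = rowMat n A}
  one_mem' := by simp
  mul_mem' := fun {x y} hx hy => by
    simp only [Set.mem_ofPred_eq, Units.val_mul] at hx hy ⊢
    rw [← mul_assoc, hx, hy]
  inv_mem' := fun {x} hx => by
    simp only [Set.mem_ofPred_eq] at hx ⊢
    conv_lhs => rw [← hx]
    rw [mul_assoc, Units.mul_inv, mul_one]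

theorem fix_le {A : ℕ} (hn : 0 < n) (hn' : n ≤ 255) (hA : rootOk n A = true) {Hs : List (List ℕ)} (hok : ∀ H ∈ Hs, okRows n H = true)
    (h : ∀ H ∈ Hs, img n A H = A) : gensSub n Hs ≤ fixSub n A := by
  refine (Subgroup.closure_le _).2 ?_
  rintro g ⟨H, hH, eg⟩
  show rowMat n A * g.val = rowMat n A
  have h1 := (good_root hn hA).mul hn hn' (hok H hH)
  rw [eg]
  have e : ThGL.mul n A H = A := h H hH
  rw [e] at h1
  exact good_mat h1 (good_root hn hA)

/-- A closed tree of rows and a part of the stabiliser divide the order of the generated group. -/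
theorem tree_dvd (hn : 0 < n) (hn' : n ≤ 255) {root : ℕ} (hroot : rootOk n root = true) {N : ℕ} (hN : 0 < N) (pt code : ℕ → ℕ)
    (succs : ℕ → List ℕ) {Gs : List (List ℕ)} {S : Subgroup (GL (Fin n) (ZMod 3))} (hGs : ∀ G ∈ Gs, InS S G)
    (h : ∀ t < N, treeOne n root N pt code succs Gs t = true) {K : Subgroup (GL (Fin n) (ZMod 3))} (hKG : K ≤ gensSub n Gs)
    (hK : K ≤ fixSub n root) : N * Nat.card K ∣ Nat.card (gensSub n Gs) := by
  classical
  set Pg := gensSub n Gs with hPg
  set X0 := rowMat n root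
  let St : Subgroup Pg := (fixSub n root).subgroupOf Pg
  have getG : ∀ s < Gs.length, ∃ g ∈ Pg, g.val = dec n (Gs.getD s []) ∧ okRows n (Gs.getD s []) = true :=
    fun s hs => by
      rw [List.getD_eq_getElem _ _ hs]
      obtain ⟨hok, g, hg, eg⟩ := inS_gens (List.getElem_mem hs) (hGs _ (List.getElem_mem hs))
      exact ⟨g, hg, eg, hok⟩
  have hinc : ∀ t s, t < s → s < N → pt t < pt s := by
    intro t s
    induction s with
    | zero => omega
    | succ s ih =>
      intro hts hs
      have h1 := h s (by omega)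
      simp only [treeOne, Bool.and_eq_true, Bool.or_eq_true] at h1
      have hstep : pt s < pt (s + 1) := by
        rcases h1.1.1 with h2 | h2
        · exact absurd (Nat.le_of_ble_eq_true h2) (by omega)
        · exact Nat.le_of_ble_eq_true h2
      rcases Nat.lt_succ_iff_lt_or_eq.1 hts with h' | rfl
      · exact (ih h' (by omega)).trans hstep
      · exact hstep
  have reach : ∀ t < N, ∃ g ∈ Pg, Good n (pt t) (X0 * g.val) := by
    intro t
    induction hd : depOf (code t) using Nat.strong_induction_on generalizing t with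
    | _ d ih =>
      intro ht
      have h1 := h t ht
      simp only [treeOne, Bool.and_eq_true, forced'_eq, Bool.or_eq_true] at h1
      rcases h1.1.2 with ⟨-, h2⟩ | ⟨⟨⟨hp, hdp⟩, hg⟩, h2⟩
      · refine ⟨1, one_mem _, ?_⟩
        rw [Units.val_one, mul_one, Nat.eq_of_beq_eq_true h2]
        exact good_root hn hroot
      · obtain ⟨g, hgm, hgood⟩ := ih _ (hd ▸ Nat.le_of_ble_eq_true hdp) _ rfl (Nat.le_of_ble_eq_true hp)
        obtain ⟨u, hu, eu, hok⟩ := getG _ (Nat.le_of_ble_eq_true hg)
        refine ⟨g * u, mul_mem hgm hu, ?_⟩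
        rw [Units.val_mul, eu, ← Nat.eq_of_beq_eq_true h2, ← mul_assoc]
        exact hgood.mul hn hn' hok
  choose g hgP hgood using fun t : Fin N => reach t t.2
  let Xs : Fin N → Matrix (Fin n) (Fin n) (ZMod 3) := fun t => X0 * (g t).val
  have hXinj : Function.Injective Xs := by
    intro t s e
    have e' : pt t = pt s := good_num (hgood t) (show Good n (pt s) (Xs t) from e ▸ hgood s)
    rcases lt_trichotomy (t : ℕ) s with h' | h' | h'
    · exact absurd e' (hinc _ _ h' s.2).ne
    · exact Fin.ext h'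
    · exact absurd e'.symm (hinc _ _ h' t.2).ne
  have stepX : ∀ y : GL (Fin n) (ZMod 3), (∃ G ∈ Gs, y.val = dec n G) → ∀ X ∈ Set.range Xs, X * y.val ∈ Set.range Xs := by
    rintro y ⟨G, hG, eG⟩ _ ⟨t, rfl⟩
    obtain ⟨s, hs, rfl⟩ := List.getElem_of_mem hG
    have h1 := h t t.2
    simp only [treeOne, Bool.and_eq_true, List.all_eq_true, List.mem_range] at h1
    obtain ⟨hlt, hb⟩ := h1.2 s hs
    refine ⟨⟨_, Nat.le_of_ble_eq_true hlt⟩, good_mat (hgood ⟨_, Nat.le_of_ble_eq_true hlt⟩) ?_⟩
    show Good n (pt ((succs t).getD s N)) (Xs t * y.val)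
    rw [eG, ← Nat.eq_of_beq_eq_true hb, List.getD_eq_getElem _ _ hs]
    exact (hgood t).mul hn hn' (hGs _ (List.getElem_mem hs)).1
  have closed : ∀ x ∈ Pg, ∀ X ∈ Set.range Xs, X * x.val ∈ Set.range Xs ∧ X * (x⁻¹).val ∈ Set.range Xs := by
    intro x hx
    induction hx using Subgroup.closure_induction with
    | mem y hy =>
      intro X hX
      refine ⟨stepX y hy X hX, ?_⟩
      -- right multiplication by `y` permutes the finite set of images
      let σ : Fin N → Fin N := fun t => (stepX y hy (Xs t) ⟨t, rfl⟩).choose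
      have hσ : ∀ t, Xs (σ t) = Xs t * y.val := fun t => (stepX y hy (Xs t) ⟨t, rfl⟩).choose_spec
      have hinj : Function.Injective σ := fun a b e => by
        have := congrArg Xs e
        rw [hσ, hσ] at this
        exact hXinj ((Units.isUnit y).mul_right_cancel this)
      obtain ⟨t, rfl⟩ := hX
      obtain ⟨s, hs⟩ := (Finite.injective_iff_surjective.1 hinj) t
      refine ⟨s, ?_⟩
      rw [← hs, hσ, mul_assoc, Units.mul_inv, mul_one]
    | one => intro X hX; simpa using hX
    | mul a b _ _ iha ihb =>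
      intro X hX
      refine ⟨?_, ?_⟩
      · rw [Units.val_mul, ← mul_assoc]
        exact (ihb _ (iha X hX).1).1
      · rw [mul_inv_rev, Units.val_mul, ← mul_assoc]
        exact (iha _ (ihb X hX).2).2
    | inv a _ ih => intro X hX; rw [inv_inv]; exact ⟨(ih X hX).2, (ih X hX).1⟩
  have h0 : X0 ∈ Set.range Xs := by
    obtain ⟨t, -, hmin⟩ := Finset.exists_min_image Finset.univ (fun t : Fin N => depOf (code t))
      ⟨⟨0, hN⟩, Finset.mem_univ _⟩
    have h1 := h t t.2
    simp only [treeOne, Bool.and_eq_true, forced'_eq, Bool.or_eq_true] at h1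
    rcases h1.1.2 with ⟨-, h2⟩ | ⟨⟨⟨hp, hdp⟩, -⟩, -⟩
    · exact ⟨t, good_mat (hgood t) (Nat.eq_of_beq_eq_true h2 ▸ good_root hn hroot)⟩
    · have h3 := hmin ⟨_, Nat.le_of_ble_eq_true hp⟩ (Finset.mem_univ _)
      have h4 := Nat.le_of_ble_eq_true hdp
      simp only at h3
      omega
  let f : Fin N → Pg ⧸ St := fun t => QuotientGroup.mk (⟨g t, hgP t⟩⁻¹ : Pg)
  have hf : Function.Bijective f := by
    constructor
    · intro t s e
      have hm : X0 * ((g t) * (g s)⁻¹).val = X0 := by
        simpa [St, Subgroup.mem_subgroupOf, fixSub] using QuotientGroup.eq.1 e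
      refine hXinj ?_
      show X0 * (g t).val = X0 * (g s).val
      have := congrArg (· * (g s).val) hm
      simpa [mul_assoc] using this
    · intro c
      obtain ⟨x, rfl⟩ := QuotientGroup.mk_surjective c
      obtain ⟨t, ht⟩ := (closed _ (inv_mem x.2) X0 h0).1
      refine ⟨t, QuotientGroup.eq.2 ?_⟩
      show X0 * ((((⟨g t, hgP t⟩ : Pg)⁻¹)⁻¹ * x : Pg) : GL (Fin n) (ZMod 3)).val = X0
      rw [inv_inv, Subgroup.coe_mul, Units.val_mul, ← mul_assoc, show X0 * (g t).val = Xs t from rfl, ht,
        mul_assoc, Units.inv_mul, mul_one]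
  have hc := Nat.card_eq_of_bijective f hf
  rw [Nat.card_fin] at hc
  have hcard : Nat.card K ∣ Nat.card St := by
    rw [← Nat.card_congr (Subgroup.subgroupOfEquivOfLe hKG).toEquiv]
    exact Subgroup.card_dvd_of_le fun x hx => hK hx
  rw [← Subgroup.index_mul_card St, show St.index = N from hc.symm]
  exact Nat.mul_dvd_mul_left N hcard

/-- A closed tree alone. -/
theorem tree_dvd' (hn : 0 < n) (hn' : n ≤ 255) {root : ℕ} (hroot : rootOk n root = true) {N : ℕ} (hN : 0 < N) (pt code : ℕ → ℕ)
    (succs : ℕ → List ℕ) {Gs : List (List ℕ)} {S : Subgroup (GL (Fin n) (ZMod 3))} (hGs : ∀ G ∈ Gs, InS S G)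
    (h : ∀ t < N, treeOne n root N pt code succs Gs t = true) : N ∣ Nat.card (gensSub n Gs) := by
  simpa using tree_dvd hn hn' hroot hN pt code succs hGs h (K := ⊥) bot_le bot_le

/-- A two-step chain of orbits divides the order of the image. -/
theorem chain_dvd {root root2 : ℕ} (hroot : rootOk 248 root = true) (hroot2 : rootOk 248 root2 = true)
    {N M : ℕ} (hN : 0 < N) (hM : 0 < M) {pt code pt2 code2 : ℕ → ℕ} {succs succs2 : ℕ → List ℕ}
    {Gs Hs : List (List ℕ)} (hGs : ∀ G ∈ Gs, InS rep.range G) (hHs : ∀ H ∈ Hs, InS (gensSub 248 Gs) H)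
    (hfix : ∀ H ∈ Hs, img 248 root H = root)
    (h : ∀ t < N, treeOne 248 root N pt code succs Gs t = true)
    (h2 : ∀ t < M, treeOne 248 root2 M pt2 code2 succs2 Hs t = true) :
    N * M ∣ Nat.card (rep : Cfsg.Spor.Th →* G248).range := by
  refine dvd_trans ?_ (Subgroup.card_dvd_of_le (gensSub_le hGs))
  exact (Nat.mul_dvd_mul_left N (tree_dvd' (n := 248) (by norm_num) (by norm_num) hroot2 hM pt2 code2 succs2 hHs h2)).trans
    (tree_dvd (n := 248) (by norm_num) (by norm_num) hroot hN pt code succs hGs h (gensSub_le hHs) (fix_le (by norm_num) (by norm_num) hroot (fun H hH => (hHs H hH).1) hfix))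

theorem range_dvd : Nat.card (rep : Cfsg.Spor.Th →* G248).range ∣ Nat.card Cfsg.Spor.Th :=
  Subgroup.card_range_dvd _

end CfsgLib.Sporadic.ThParts
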