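import Mathlib.Data.Nat.Notation

/-!
# Orbits of rows
-/

set_option autoImplicit false
set_option maxRecDepth 100000

namespace CfsgLib.Sporadic.ThParts.SevenSq

/-- The start. -/
def start : ℕ := 0x868504642a81666a5954a1066950825861964520842851846a4828558268a944184a08684a16905511494a2500081808028a59099a4915a480996a220064

/-- Points. -/
def pts0 : List ℕ := [
  0x6218662a8a19a920522884448a28891a22a810619859462a55aa898a2a8264a961551809558aaa5295a4aa808260404198a59404a402092026845a45856,
  0x15464a208a5a856aa4608118012640a2468642110151a8858544869842a954a2852450181029900464892a6610615184258a550415084241902002104029,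
  0x6504964a9a11a9a56a858591a641290604aa485a64126481659042082065a099a596820620a25095249504a68691aaaa968a510452a50165510512486082,
  0x8608a411080218a8a90a61518544081626412060241895609a060026a6420a8021644185906185014018596668216226918a5586554564425111249610a9,
  0x868504642a81666a5954a1066950825861964520842851846a4828558268a944184a08684a16905511494a2500081808028a59099a4915a480996a220064,
  0xa61a6624aaa4125982856851911141161196414154248a542410a05666510952541124155261a0660095a282a5548440658a59414889a881296950906241,
  0xa6411141002221844085981941049215951856410021198a1248188a99a606155066426a6a0821a9184695a121126918988a5902551105a54880a2412885]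

/-- Tree. -/
def codes0 : List ℕ := [
  1114116, 3211266, 2162688, 2162694, 0, 3211267, 1048580]

/-- Successors. -/
def succs0 : List (List ℕ) := [
  [3, 2], [4, 6], [5, 1], [2, 5],
  [6, 0], [1, 4], [0, 3]]

/-- The table. -/
def ptsTab : List (List ℕ) := [pts0]

/-- The table. -/
def codesTab : List (List ℕ) := [codes0]

/-- The table. -/
def succsTab : List (List (List ℕ)) := [succs0]

/-- The start. -/
def startTwo : ℕ := 0x64191282695a6191a9464401602a5869029559521a451115aa1460821519956620845112a8a444962a9402114200668805109a4269521018652a6984a214

/-- Points. -/
def ptsTwo0 : List ℕ := [
  0x1aa1228009660406118852589861605562545a00a419a111841540a052566156402920150629619589944195558280481886aa258a4665228909064a618a,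
  0x254a1064682254166a60692090a26488561850960985262525a5465554195a4288a5994169008505a965288a4680609021426449248a490a4a6940486221,
  0x591466161888040a545a05206692224095528506106210419484a94921196545a1101490890162502486662281090228640989961285940a569149664556,
  0x61609908928aa5112546468619a515411486a685914489a001a98054511800686a20818014981161218042a0a1668952490809809160946a544a11828689,
  0x64191282695a6191a9464401602a5869029559521a451115aa1460821519956620845112a8a444962a9402114200668805109a4269521018652a6984a214,
  0x90620a890845448162080889454295185826096455069525a1888a44191961154400149295a2aa14668220804402504502a628085814905a684521219185,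
  0xa59888049069658124884694a8904259a0658699995962052880061600552091a88560501a1816421aa2206809a5159811845a4499991548590288108005]

/-- Tree. -/
def codesTwo0 : List ℕ := [
  1048580, 3145730, 2097152, 5242886, 0, 6291459, 4194305]

/-- Successors. -/
def succsTwo0 : List (List ℕ) := [
  [2], [6], [1], [5],
  [0], [4], [3]]

/-- The table. -/
def ptsTwoTab : List (List ℕ) := [ptsTwo0]

/-- The table. -/
def codesTwoTab : List (List ℕ) := [codesTwo0]

/-- The table. -/
def succsTwoTab : List (List (List ℕ)) := [succsTwo0]

end CfsgLib.Sporadic.ThParts.SevenSq
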