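import Mathlib.Data.Nat.Notation

/-!
# Orbits of rows
-/

set_option autoImplicit false
set_option maxRecDepth 100000

namespace CfsgLib.Sporadic.ThParts.Thirteen

/-- The start. -/
def start : ℕ := 0x541165040191651880545858494948a4486a45064a9510894aa900a046a4a88628a9a1661990185a41822616556049a4a99a499669146504a11880a088a5

/-- Points. -/
def pts0 : List ℕ := [
  0x5028515949209a0012045a2a5a5550948256588a896990690a14a2065115148916000519642a8a02048062a09866851a500a4200561a020042264452298,
  0x11a22a518a511a9850164966526260451a4814a5481246544a6592a4059aa5911aa9109102a612410a69280010640561185588248901916a1456a2245456,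
  0x1551a855085a16656098288524419909120468619998a850a561812a9029190810916629519120a682a0221261042195056198068819490061a5aa011145,
  0x4214480aa526254499a29294624666040865a6065a94a918990582810805810a22a85a55015561890895594421182866a6044501aa9462259090a4460914,
  0x4a204695a462812842a954622a48640254812919151954a08248146968912496525094402848815968441200659452928800862196818060891442a62449,
  0x5129469a995a02299098169a6822845085020918a69958201661291a50169668604a949196869155180a808540112815889265a8a2929852151519658551,
  0x541165040191651880545858494948a4486a45064a9510894aa900a046a4a88628a9a1661990185a41822616556049a4a99a499669146504a11880a088a5,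
  0x55a02a585985912041a952a2966856aa249962425560a190a8041499195450551045186268a689956a9a0409969194a2465900155841100451a525560548,
  0x6220661206628994a241462964a8850929155950581a041919a8a895992995526656152825a615064aa09594210a68a66151452090689a4442a466552a5a,
  0x69242aa895258421416802122844062000196000601096a6858a28254886856a62412914859629414858a08a59428569a60410501189a4519686a9122916,
  0x84884486a1908818050a24906886195049110195a184506a24296196084224105102296a91585a60a6a8aa6a2162950aa4182804595649698510a4569a40,
  0x985562265a244a444a8a1645209a16428989901950a50984029a54051500a2005092954109485952a99a662601851810aa9a566a052569956a1a5049a8a8,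
  0xaa59010520090169014645918482090116526682402458986166025004495495a0260909949a49924541050026696a850a2884919124494495589146a044]

/-- Tree. -/
def codes0 : List ℕ := [
  6291460, 4194312, 1048582, 12582924, 5242881, 10485769, 0, 2097154, 3145735, 9437195,
  7340032, 8388618, 11534341]

/-- Successors. -/
def succs0 : List (List ℕ) := [
  [10], [4], [7], [6],
  [0], [12], [2], [8],
  [1], [5], [11], [9],
  [3]]

/-- The table. -/
def ptsTab : List (List ℕ) := [pts0]

/-- The table. -/
def codesTab : List (List ℕ) := [codes0]

/-- The table. -/
def succsTab : List (List (List ℕ)) := [succs0]

end CfsgLib.Sporadic.ThParts.Thirteen
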