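import Cfsg.Agent.Lib.Sporadic.ThParts.TwoPartDefs

/-!
# The orbit checks, part 2
-/

set_option autoImplicit false
set_option maxRecDepth 100000

namespace CfsgLib.Sporadic.ThParts.TwoPart

theorem chkTwo2 : ∀ t < 64, testTwo (128 + t) = true := by
  decide +kernel

theorem chkTwo3 : ∀ t < 64, testTwo (192 + t) = true := by
  decide +kernel

end CfsgLib.Sporadic.ThParts.TwoPart
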