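import Cfsg.Agent.Lib.Sporadic.ThParts.TwoPartChecks0
import Cfsg.Agent.Lib.Sporadic.ThParts.TwoPartChecks1
import Cfsg.Agent.Lib.Sporadic.ThParts.TwoPartChecks2
import Cfsg.Agent.Lib.Sporadic.ThParts.TwoPartTests0
import Cfsg.Agent.Lib.Sporadic.ThParts.TwoPartTests1
import Cfsg.Agent.Lib.Sporadic.ThParts.TwoPartTests2

/-!
# A divisor 32768 of the order of the presented Thompson group
-/

set_option autoImplicit false
set_option maxRecDepth 100000

namespace CfsgLib.Sporadic.ThParts.TwoPart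

open ThGL

theorem node0_in : InS rep.range (unpack node0) :=
  InS.prod (List.forall_mem_cons.2 ⟨(inS_lett' 4 (by norm_num)), List.forall_mem_cons.2 ⟨(inS_lett' 3 (by norm_num)), List.forall_mem_cons.2 ⟨(inS_lett' 5 (by norm_num)), List.forall_mem_cons.2 ⟨(inS_lett' 4 (by norm_num)), List.forall_mem_cons.2 ⟨(inS_lett' 3 (by norm_num)), List.forall_mem_cons.2 ⟨(inS_lett' 5 (by norm_num)), List.forall_mem_cons.2 ⟨(inS_lett' 4 (by norm_num)), List.forall_mem_nil _⟩⟩⟩⟩⟩⟩⟩) node0_chk.1 node0_chk.2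

theorem node1_in : InS rep.range (unpack node1) :=
  InS.prod (List.forall_mem_cons.2 ⟨(inS_lett' 4 (by norm_num)), List.forall_mem_cons.2 ⟨(inS_lett' 3 (by norm_num)), List.forall_mem_cons.2 ⟨(inS_lett' 5 (by norm_num)), List.forall_mem_cons.2 ⟨(inS_lett' 7 (by norm_num)), List.forall_mem_cons.2 ⟨(inS_lett' 3 (by norm_num)), List.forall_mem_cons.2 ⟨(inS_lett' 6 (by norm_num)), List.forall_mem_cons.2 ⟨(inS_lett' 8 (by norm_num)), List.forall_mem_cons.2 ⟨(inS_lett' 4 (by norm_num)), List.forall_mem_nil _⟩⟩⟩⟩⟩⟩⟩⟩) node1_chk.1 node1_chk.2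

theorem node2_in : InS rep.range (unpack node2) :=
  InS.prod (List.forall_mem_cons.2 ⟨(inS_lett' 6 (by norm_num)), List.forall_mem_cons.2 ⟨(inS_lett' 8 (by norm_num)), List.forall_mem_cons.2 ⟨(inS_lett' 7 (by norm_num)), List.forall_mem_cons.2 ⟨(inS_lett' 3 (by norm_num)), List.forall_mem_cons.2 ⟨(inS_lett' 8 (by norm_num)), List.forall_mem_cons.2 ⟨(inS_lett' 7 (by norm_num)), List.forall_mem_cons.2 ⟨(inS_lett' 5 (by norm_num)), List.forall_mem_cons.2 ⟨(inS_lett' 9 (by norm_num)), List.forall_mem_nil _⟩⟩⟩⟩⟩⟩⟩⟩) node2_chk.1 node2_chk.2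

theorem node3_in : InS rep.range (unpack node3) :=
  InS.prod (List.forall_mem_cons.2 ⟨(inS_lett' 3 (by norm_num)), List.forall_mem_cons.2 ⟨(inS_lett' 2 (by norm_num)), List.forall_mem_cons.2 ⟨(inS_lett' 3 (by norm_num)), List.forall_mem_nil _⟩⟩⟩) node3_chk.1 node3_chk.2

theorem gens_in : ∀ G ∈ gens, InS rep.range G :=
  List.forall_mem_cons.2 ⟨node0_in, List.forall_mem_cons.2 ⟨node1_in, List.forall_mem_cons.2 ⟨node2_in, List.forall_mem_cons.2 ⟨node3_in, List.forall_mem_nil _⟩⟩⟩⟩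

theorem gen0_in : InS (gensSub 248 gens) (unpack node0) :=
  inS_gens (List.get_mem gens (⟨0, Nat.le_of_ble_eq_true rfl⟩ : Fin gens.length)) (gens_in _ (List.get_mem gens (⟨0, Nat.le_of_ble_eq_true rfl⟩ : Fin gens.length)))

theorem gen1_in : InS (gensSub 248 gens) (unpack node1) :=
  inS_gens (List.get_mem gens (⟨1, Nat.le_of_ble_eq_true rfl⟩ : Fin gens.length)) (gens_in _ (List.get_mem gens (⟨1, Nat.le_of_ble_eq_true rfl⟩ : Fin gens.length)))

theorem gen2_in : InS (gensSub 248 gens) (unpack node2) :=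
  inS_gens (List.get_mem gens (⟨2, Nat.le_of_ble_eq_true rfl⟩ : Fin gens.length)) (gens_in _ (List.get_mem gens (⟨2, Nat.le_of_ble_eq_true rfl⟩ : Fin gens.length)))

theorem gen3_in : InS (gensSub 248 gens) (unpack node3) :=
  inS_gens (List.get_mem gens (⟨3, Nat.le_of_ble_eq_true rfl⟩ : Fin gens.length)) (gens_in _ (List.get_mem gens (⟨3, Nat.le_of_ble_eq_true rfl⟩ : Fin gens.length)))

theorem ginv3_in : InS (gensSub 248 gens) (unpack ginv3) :=
  InS.inv gen3_in ginv3_chk.1 ginv3_chk.2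

theorem stab0_in : InS (gensSub 248 gens) (unpack stab0) :=
  InS.prod (List.forall_mem_cons.2 ⟨gen1_in, List.forall_mem_nil _⟩) stab0_chk.1 stab0_chk.2

theorem stab1_in : InS (gensSub 248 gens) (unpack stab1) :=
  InS.prod (List.forall_mem_cons.2 ⟨gen3_in, List.forall_mem_cons.2 ⟨gen2_in, List.forall_mem_nil _⟩⟩) stab1_chk.1 stab1_chk.2

theorem stab2_in : InS (gensSub 248 gens) (unpack stab2) :=
  InS.prod (List.forall_mem_cons.2 ⟨gen0_in, List.forall_mem_cons.2 ⟨gen2_in, List.forall_mem_cons.2 ⟨gen0_in, List.forall_mem_cons.2 ⟨gen1_in, List.forall_mem_cons.2 ⟨ginv3_in, List.forall_mem_nil _⟩⟩⟩⟩⟩) stab2_chk.1 stab2_chk.2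

theorem stabs_in : ∀ H ∈ stabs, InS (gensSub 248 gens) H :=
  List.forall_mem_cons.2 ⟨stab0_in, List.forall_mem_cons.2 ⟨stab1_in, List.forall_mem_cons.2 ⟨stab2_in, List.forall_mem_nil _⟩⟩⟩

theorem stabs_fix : stabs.all (fun H => Nat.beq (img 248 (spread start) H) (spread start)) = true := by
  decide +kernel

theorem start_ok : rootOk 248 (spread start) = true := by decide +kernel

theorem chk : ∀ t < 128, test t = true := by
  intro t ht
  by_cases h0 : t < 64
  · simpa [Nat.add_sub_cancel' (show 0 ≤ t by omega)] using chk0 (t - 0) (by omega)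
  simpa [Nat.add_sub_cancel' (show 64 ≤ t by omega)] using chk1 (t - 64) (by omega)

theorem startTwo_ok : rootOk 248 (spread startTwo) = true := by decide +kernel

theorem chkTwo : ∀ t < 256, testTwo t = true := by
  intro t ht
  by_cases h0 : t < 64
  · simpa [Nat.add_sub_cancel' (show 0 ≤ t by omega)] using chkTwo0 (t - 0) (by omega)
  by_cases h1 : t < 128
  · simpa [Nat.add_sub_cancel' (show 64 ≤ t by omega)] using chkTwo1 (t - 64) (by omega)
  by_cases h2 : t < 192
  · simpa [Nat.add_sub_cancel' (show 128 ≤ t by omega)] using chkTwo2 (t - 128) (by omega)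
  simpa [Nat.add_sub_cancel' (show 192 ≤ t by omega)] using chkTwo3 (t - 192) (by omega)

theorem dvd : 32768 ∣ Nat.card Cfsg.Spor.Th :=
  (show 32768 = 128 * 256 from rfl) ▸ (chain_dvd start_ok startTwo_ok (Nat.le_of_ble_eq_true rfl) (Nat.le_of_ble_eq_true rfl)
    gens_in stabs_in (fun H hH => Nat.eq_of_beq_eq_true (List.all_eq_true.1 stabs_fix H hH)) chk chkTwo).trans range_dvd

end CfsgLib.Sporadic.ThParts.TwoPart
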