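import Cfsg.Agent.Lib.Sporadic.ThParts.Base
import Cfsg.Agent.Lib.Sporadic.ThParts.TwoPartData

/-!
# Checks of the matrices, part 0
-/

set_option autoImplicit false
set_option maxRecDepth 100000

namespace CfsgLib.Sporadic.ThParts.TwoPart

open ThGL

theorem node0_chk : okRows 248 (unpack node0) = true ∧ prodIs [(ThGL.lett 4), (ThGL.lett 3), (ThGL.lett 5), (ThGL.lett 4), (ThGL.lett 3), (ThGL.lett 5), (ThGL.lett 4)] (unpack node0) = true := by
  decide +kernel

theorem node1_chk : okRows 248 (unpack node1) = true ∧ prodIs [(ThGL.lett 4), (ThGL.lett 3), (ThGL.lett 5), (ThGL.lett 7), (ThGL.lett 3), (ThGL.lett 6), (ThGL.lett 8), (ThGL.lett 4)] (unpack node1) = true := by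
  decide +kernel

theorem node2_chk : okRows 248 (unpack node2) = true ∧ prodIs [(ThGL.lett 6), (ThGL.lett 8), (ThGL.lett 7), (ThGL.lett 3), (ThGL.lett 8), (ThGL.lett 7), (ThGL.lett 5), (ThGL.lett 9)] (unpack node2) = true := by
  decide +kernel

end CfsgLib.Sporadic.ThParts.TwoPart
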